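import Cfsg.Agent.H74.J4Tau.Words

/-!
Words of the model for the centralizer of a line (helper9): an element of order three and an
element of order five, commuting, both fixing a mask of the line.
-/

set_option autoImplicit false

namespace H9.J4LineN

open H94.J4 (app)
open H84.J4N (sameW)
open H74.J4Tau (wordCols)

/-- The word of the element of order three. -/
def tW : List ℕ :=
  [1,0,2,0,1,0,1,0,1,0,2,0,2,0,1,0,2,0,2,0,2,0,2,0,1,0,2,0,2,0,2,0,2,0,1,0,2,0,2,0,2,0,2,0,1,0,2,0,2,0,2,0,2,0,1,0,2,0,1,0,2,0,2,0,1,0,2]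

/-- The word of the element of order five. -/
def qW : List ℕ :=
  [1,0,2,0,1,0,1,0,1,0,2,0,2,0,1,0,2,0,2,0,2,0,2,0,1,0,2,0,2,0,2,0,2,0,1,0,2,0,1,0,2,0,2,0,1,0,2]

theorem words_ok : sameW (tW ++ tW ++ tW) [] = true ∧ sameW tW [] = false ∧
    sameW (qW ++ qW ++ qW ++ qW ++ qW) [] = true ∧ sameW qW [] = false ∧
    sameW (qW ++ tW) (tW ++ qW) = true := by decide +kernel

theorem masks_ok : app (wordCols tW) 1731 = 1731 ∧ app (wordCols qW) 1731 = 1731 ∧
    app (wordCols tW) 629 = 1885 ∧ app (wordCols tW) 1885 = 1320 ∧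
    (167 : ℕ) ^^^ app (wordCols tW) 167 = 629 ∧
    (1885 : ℕ) ^^^ 1731 = 414 ∧ (1320 : ℕ) ^^^ 1731 = 1003 ∧ (629 : ℕ) ^^^ 1731 = 1206 := by
  decide +kernel

end H9.J4LineN
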