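import Cfsg.Agent.H9.J4LineN.Abstract
import Cfsg.Agent.H9.J4LineN.Data
import Cfsg.Agent.H92.J4Rel.Defs

/-!
The centralizer of a line of fixed masks moves a further fixed mask only among the fixed masks
(helper9).
-/

set_option autoImplicit false

namespace H9.J4LineN

open Cfsg
open H94.J4 (NN vec app act)
open H84.J4N (pv)
open H74.J4Tau (wordCols act_word)
open H92.J4Rel (vN)

/-- The element of order three of the model. -/
noncomputable def tN : NN := SemidirectProduct.inr (pv tW)

/-- The element of order five of the model. -/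
noncomputable def qN : NN := SemidirectProduct.inr (pv qW)

theorem vN_mul (m k : ℕ) : vN m * vN k = vN (m ^^^ k) := by
  rw [vN, vN, vN, ← map_mul, H94.J4.vec_xor]

theorem vN_self (m : ℕ) : vN m * vN m = 1 := by
  rw [vN_mul, Nat.xor_self, vN, H94.J4.vec_zero, map_one]

theorem tN_conj (m : ℕ) : tN * vN m * tN⁻¹ = vN (app (wordCols tW) m) := by
  rw [tN, vN, vN, ← act_word, SemidirectProduct.inl_aut, map_inv]

theorem qN_comm : Commute qN (vN 1731) := by
  show qN * vN 1731 = vN 1731 * qN
  rw [← mul_inv_eq_iff_eq_mul, qN, vN, ← map_inv, ← SemidirectProduct.inl_aut, act_word,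
    masks_ok.2.1]

theorem tN_comm : Commute tN (vN 1731) := by
  show tN * vN 1731 = vN 1731 * tN
  rw [← mul_inv_eq_iff_eq_mul, tN_conj, masks_ok.1]

theorem orderOf_tN : orderOf tN = 3 := by
  haveI : Fact (Nat.Prime 3) := ⟨Nat.prime_three⟩
  refine orderOf_eq_prime ?_ fun e => ?_
  · have h := H84.J4N.pv_eq words_ok.1
    rw [H84.J4N.pv_append, H84.J4N.pv_append, H84.J4N.pv_nil] at h
    rw [tN, ← map_pow, pow_succ, pow_two, h, map_one]
  · have h : pv tW = 1 := SemidirectProduct.inr_injective (e.trans (map_one _).symm)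
    have h2 := words_ok.2.1
    rw [Bool.eq_false_iff] at h2
    exact h2 (List.all_eq_true.2 fun i hi => by
      rw [Nat.beq_eq]
      have hi' := List.mem_range.1 hi
      rw [H84.J4N.wg_spec tW ⟨i, hi'⟩, h]
      simp [H84.J4N.wg])

theorem orderOf_qN : orderOf qN = 5 := by
  haveI : Fact (Nat.Prime 5) := ⟨by norm_num⟩
  refine orderOf_eq_prime ?_ fun e => ?_
  · have h := H84.J4N.pv_eq words_ok.2.2.1
    simp only [H84.J4N.pv_append, H84.J4N.pv_nil] at h
    rw [qN, ← map_pow, show pv qW ^ 5 = pv qW * pv qW * pv qW * pv qW * pv qW by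
      simp only [pow_succ, pow_zero, one_mul], h, map_one]
  · have h : pv qW = 1 := SemidirectProduct.inr_injective (e.trans (map_one _).symm)
    have h2 := words_ok.2.2.2.1
    rw [Bool.eq_false_iff] at h2
    exact h2 (List.all_eq_true.2 fun i hi => by
      rw [Nat.beq_eq]
      have hi' := List.mem_range.1 hi
      rw [H84.J4N.wg_spec qW ⟨i, hi'⟩, h]
      simp [H84.J4N.wg])

theorem tq_comm : Commute tN qN := by
  show tN * qN = qN * tN
  rw [tN, qN, ← map_mul, ← map_mul, ← H84.J4N.pv_append, ← H84.J4N.pv_append,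
    H84.J4N.pv_eq words_ok.2.2.2.2]

variable {G : Type*} [Group G] [Finite G] [IsSimpleGroup G] {z : G} {P : Subgroup G}

open H92.J4Rel (lineA lineB lineC fixMasks) in
/-- The field `line` of the interface. -/
theorem line_field (hG : ¬ IsMulCommutative G) (hJ : IsOfJankoFourTypeWith z P) (j : NN →* G)
    (hj : Function.Injective j) :
    ∀ g : G, Commute g (j (vN lineA)) → Commute g (j (vN lineB)) →
      ∃ m ∈ fixMasks, g * j (vN lineC) * g⁻¹ = j (vN m) := by
  intro g hgA hgB
  have hjo : ∀ u : NN, orderOf (j u) = orderOf u := fun u => orderOf_injective j hj u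
  have ha : orderOf (j (vN lineB)) = 2 := by
    haveI : Fact (Nat.Prime 2) := ⟨Nat.prime_two⟩
    rw [hjo]
    refine orderOf_eq_prime (by rw [pow_two, vN_self]) fun h => ?_
    have h' : vec lineB = vec 0 :=
      SemidirectProduct.inl_injective (h.trans (by rw [H94.J4.vec_zero, map_one]))
    have := H74.J4Tau.vec_inj (by decide) (by decide) h'
    exact absurd this (by decide)
  obtain ⟨c, p, hp, htp, hac⟩ := central_eq hG hJ (θ := j tN) (q := j qN) (a := j (vN lineB))
    (by rw [hjo, orderOf_tN]) (by rw [hjo, orderOf_qN]) ha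
    (tN_comm.map j) (tq_comm.map j) (qN_comm.symm.map j)
  -- carry everything to `z`
  set φ : G →* G := (MulAut.conj c⁻¹).toMonoidHom with hφ
  have hφz : φ (j (vN lineB)) = z := by
    rw [hac]; simp [hφ, mul_assoc]
  have hφp : φ (j tN) = p := by
    rw [htp]; simp [hφ, mul_assoc]
  have hφinj : Function.Injective φ := (MulAut.conj c⁻¹).injective
  have hxv : vN lineA = vN 167 * tN * (vN 167)⁻¹ * tN⁻¹ := by
    have e : (vN 167)⁻¹ = vN 167 := inv_eq_of_mul_eq_one_right (vN_self 167)
    rw [e, show vN 167 * tN * vN 167 * tN⁻¹ = vN 167 * (tN * vN 167 * tN⁻¹) by group, tN_conj,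
      vN_mul, masks_ok.2.2.2.2.1]
    rfl
  have hxz : Commute (φ (j (vN 167))) z := by
    rw [← hφz]
    exact Commute.map (Commute.map (show vN 167 * vN lineB = vN lineB * vN 167 by
      rw [vN_mul, vN_mul, Nat.xor_comm]) j) φ
  have hb : φ (j (vN lineA)) = φ (j (vN 167)) * p * (φ (j (vN 167)))⁻¹ * p⁻¹ := by
    rw [← hφp, hxv]; simp only [map_mul, map_inv]
  have hb2 : φ (j (vN lineA)) * φ (j (vN lineA)) = 1 := by
    rw [← map_mul, ← map_mul, vN_self, map_one, map_one]
  have hgz : Commute (φ g) z := hφz ▸ hgB.map φ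
  obtain ⟨r, hr, hres⟩ := conj_form hJ hp hxz hb hb2 hgz (hgA.map φ)
    (r := p * p) (mul_mem hp hp)
  have hp3 : Nat.card P = 3 := hJ.2.2.2.2.2.1
  have hlhs : p * p * φ (j (vN lineA)) * (p * p)⁻¹ = φ (j (vN lineC)) := by
    rw [show p * p * φ (j (vN lineA)) * (p * p)⁻¹ = p * (p * φ (j (vN lineA)) * p⁻¹) * p⁻¹ by group,
      ← hφp]
    simp only [← map_mul, ← map_inv, tN_conj]
    rw [show app (wordCols tW) lineA = 1885 from masks_ok.2.2.1, masks_ok.2.2.2.1]
    rfl
  rw [hlhs] at hres
  -- the possible values of `r`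
  have hr3 : r = 1 ∨ r = p ∨ r = p * p := by
    have hp1 : p ≠ 1 := by
      rintro rfl
      have := hjo tN
      rw [orderOf_tN, ← orderOf_injective φ hφinj, hφp, orderOf_one] at this
      omega
    have hpo : orderOf p = 3 := by rw [← hφp, orderOf_injective φ hφinj, hjo, orderOf_tN]
    have hz : Subgroup.zpowers p = P :=
      Subgroup.eq_of_le_of_card_ge (Subgroup.zpowers_le.2 hp) (by rw [Nat.card_zpowers, hpo, hp3])
    rw [← hz] at hr
    obtain ⟨k, hk⟩ := Subgroup.mem_zpowers_iff.1 hr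
    rw [← zpow_mod_orderOf, hpo] at hk
    have h1 : (0 : ℤ) ≤ k % 3 := Int.emod_nonneg _ (by norm_num)
    have h2 : k % 3 < 3 := Int.emod_lt_of_pos _ (by norm_num)
    push_cast at hk
    obtain e | e | e : k % 3 = 0 ∨ k % 3 = 1 ∨ k % 3 = 2 := by omega
    all_goals rw [e] at hk
    · left; rw [← hk, zpow_zero]
    · right; left; rw [← hk, zpow_one]
    · right; right; rw [← hk, zpow_two]
  have him : ∃ k, (k = 629 ∨ k = 1885 ∨ k = 1320) ∧
      r * φ (j (vN lineA)) * r⁻¹ = φ (j (vN k)) := by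
    rcases hr3 with rfl | rfl | rfl
    · exact ⟨629, Or.inl rfl, by rw [one_mul, inv_one, mul_one]; rfl⟩
    · refine ⟨1885, Or.inr (Or.inl rfl), ?_⟩
      rw [← hφp]
      simp only [← map_mul, ← map_inv, tN_conj]
      rw [show app (wordCols tW) lineA = 1885 from masks_ok.2.2.1]
    · exact ⟨1320, Or.inr (Or.inr rfl), hlhs⟩
  obtain ⟨k, hk, hke⟩ := him
  rw [hke, ← hφz, ← map_inv, ← map_mul φ g, ← map_mul φ, ← map_mul φ, ← map_mul j, vN_mul] at hres
  rcases hres with h | h
  · exact ⟨k, by rcases hk with rfl | rfl | rfl <;> decide, hφinj h⟩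
  · exact ⟨k ^^^ lineB, by rcases hk with rfl | rfl | rfl <;> decide +kernel, hφinj h⟩

end H9.J4LineN
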