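import Cfsg.Agent.H74.J4Tau.Center
import Cfsg.Agent.H74.J4Five.Five

/-!
In a group of Janko-four type: the involution in the centre of the centralizer of an element of
order three, and the elements centralising it and a commutator with that element (helper9).
-/

set_option autoImplicit false
set_option linter.unusedSectionVars false

namespace H9.J4LineN

open Subgroup Cfsg
open Cfsg.Agent.H69.J4

variable {G : Type*} [Group G] [Finite G] {z : G} {P : Subgroup G}

/-- An element of the centralizer of `z` moves an element of `P` only into `E p'` with `p'` in `P`,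
and moves a commutator of square one into `E`. -/
theorem local_form (hJ : IsOfJankoFourTypeWith z P) {p g : G} (hp : p ∈ P) (hg : Commute g z) :
    (∃ e ∈ twoCoreOfCentralizer z, ∃ p' ∈ P, g * p * g⁻¹ = e * p') ∧
      ((g * p * g⁻¹ * p⁻¹) * (g * p * g⁻¹ * p⁻¹) = 1 →
        g * p * g⁻¹ * p⁻¹ ∈ twoCoreOfCentralizer z) := by
  classical
  obtain ⟨-, -, hE, -, ⟨N, hEN, hNH, hHN, hcN, -, hPN⟩, hP, -, -, -⟩ := hJ
  set E := twoCoreOfCentralizer z with hEdef
  have hnormE : ∀ h : G, h ∈ centralizer ({z} : Set G) → ∀ e ∈ E, h * e * h⁻¹ ∈ E := by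
    rintro h hh _ ⟨e, he, rfl⟩
    exact ⟨⟨h, hh⟩ * e * ⟨h, hh⟩⁻¹, Normal.conj_mem inferInstance e he _, rfl⟩
  have hEP : E ⊓ P = ⊥ := Subgroup.inf_eq_bot_of_coprime (by rw [hE, hP]; norm_num)
  have hinj : Function.Injective
      (fun x : ↥E × ↥P => (⟨x.1.1 * x.2.1, mul_mem (hEN x.1.2) (hPN x.2.2)⟩ : ↥N)) := by
    rintro ⟨⟨e, he⟩, ⟨q, hq⟩⟩ ⟨⟨e', he'⟩, ⟨q', hq'⟩⟩ h
    have h' : e * q = e' * q' := congrArg Subtype.val h
    have h1 : e'⁻¹ * e = q' * q⁻¹ := by
      calc e'⁻¹ * e = e'⁻¹ * (e * q) * q⁻¹ := by group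
        _ = q' * q⁻¹ := by rw [h']; group
    have h2 : e'⁻¹ * e ∈ E ⊓ P :=
      Subgroup.mem_inf.2 ⟨mul_mem (inv_mem he') he, h1 ▸ mul_mem hq' (inv_mem hq)⟩
    rw [hEP, mem_bot] at h2
    have e1 : e = e' := (inv_mul_eq_one.1 h2).symm
    subst e1
    have e2 : q = q' := mul_left_cancel h'
    subst e2
    rfl
  have hsur := (hinj.bijective_of_nat_card_le
    (le_of_eq (by rw [Nat.card_prod, hcN, hE, hP, mul_comm]))).2
  have hdec : ∀ n ∈ N, ∃ e ∈ E, ∃ q ∈ P, n = e * q := fun n hn => by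
    obtain ⟨⟨⟨e, he⟩, ⟨q, hq⟩⟩, h⟩ := hsur ⟨n, hn⟩
    exact ⟨e, he, q, hq, (congrArg Subtype.val h).symm⟩
  have hgN : g * p * g⁻¹ ∈ N :=
    ((mem_normalizer_iff.1 (hHN (mem_centralizer_singleton_iff.2 hg.eq))) p).1 (hPN hp)
  refine ⟨hdec _ hgN, fun h2 => ?_⟩
  obtain ⟨e, he, q, hq, heq⟩ := hdec _ (mul_mem hgN (inv_mem (hPN hp)))
  rw [heq] at h2 ⊢
  have hqq : q * q ∈ E ⊓ P := by
    refine Subgroup.mem_inf.2 ⟨?_, mul_mem hq hq⟩
    have h3 := mul_mem (inv_mem he) (hnormE q (hNH (hPN hq)) e he)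
    have h4 : e * (q * e * q⁻¹) * (q * q) = 1 := by rw [← h2]; group
    rw [eq_inv_of_mul_eq_one_right h4]
    exact inv_mem (mul_mem he (hnormE q (hNH (hPN hq)) e he))
  rw [hEP, mem_bot] at hqq
  have hq3 : q ^ 3 = 1 := by
    have h := pow_card_eq_one' (G := ↥P) (x := ⟨q, hq⟩)
    rw [hP] at h
    exact congrArg Subtype.val h
  rw [pow_succ, pow_two, hqq, one_mul] at hq3
  rwa [hq3, mul_one]

/-- The images, under an element centralising `z` and `b`, of the conjugates of a commutator `b`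
with an element of `P`. -/
theorem conj_form (hJ : IsOfJankoFourTypeWith z P) {p x g b : G} (hp : p ∈ P) (hx : Commute x z)
    (hb : b = x * p * x⁻¹ * p⁻¹) (hb2 : b * b = 1) (hg : Commute g z) (hgb : Commute g b)
    {r : G} (hr : r ∈ P) :
    ∃ r' ∈ P, g * (r * b * r⁻¹) * g⁻¹ = r' * b * r'⁻¹ ∨
      g * (r * b * r⁻¹) * g⁻¹ = r' * b * r'⁻¹ * z := by
  have d := data_of_type hJ
  have hbE : b ∈ twoCoreOfCentralizer z := by
    rw [hb] at hb2 ⊢
    exact (local_form hJ hp hx).2 hb2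
  obtain ⟨⟨e, he, r', hr', hre⟩, -⟩ := local_form hJ hr hg
  have hrH : r' ∈ centralizer ({z} : Set G) := d.hPH hr'
  have hc : r' * b * r'⁻¹ ∈ twoCoreOfCentralizer z := by
    obtain ⟨b', hb', rfl⟩ := hbE
    exact ⟨⟨r', hrH⟩ * b' * ⟨r', hrH⟩⁻¹, Normal.conj_mem inferInstance b' hb' _, rfl⟩
  refine ⟨r', hr', ?_⟩
  have key : g * (r * b * r⁻¹) * g⁻¹ = e * (r' * b * r'⁻¹) * e⁻¹ := by
    calc g * (r * b * r⁻¹) * g⁻¹ = (g * r * g⁻¹) * (g * b * g⁻¹) * (g * r * g⁻¹)⁻¹ := by group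
      _ = (e * r') * b * (e * r')⁻¹ := by rw [hre, hgb.eq, mul_inv_cancel_right]
      _ = e * (r' * b * r'⁻¹) * e⁻¹ := by group
  rw [key]
  refine (d.mk_eq_iff (x := ⟨_, hc⟩)
    (y := (⟨e, he⟩ : ↥(twoCoreOfCentralizer z)) * ⟨_, hc⟩ * ⟨e, he⟩⁻¹)).1 ?_
  rw [QuotientGroup.mk_mul, QuotientGroup.mk_mul, QuotientGroup.mk_inv,
    d.comm_bar (QuotientGroup.mk (⟨e, he⟩ : ↥(twoCoreOfCentralizer z))), mul_inv_cancel_right]

variable [IsSimpleGroup G]

/-- An involution commuting with an element `θ` of order three and with an element of order five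
that commutes with `θ` is the central involution of the centralizer of `θ`. -/
theorem central_eq (hG : ¬ IsMulCommutative G) (hJ : IsOfJankoFourTypeWith z P) {θ q a : G}
    (hθ : orderOf θ = 3) (hq : orderOf q = 5) (ha : orderOf a = 2) (hθa : Commute θ a)
    (hθq : Commute θ q) (haq : Commute a q) :
    ∃ g : G, ∃ p ∈ P, θ = g * p * g⁻¹ ∧ a = g * z * g⁻¹ := by
  classical
  haveI : Fact (Nat.Prime 3) := ⟨Nat.prime_three⟩
  have hP3 : Nat.card P = 3 := hJ.2.2.2.2.2.1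
  obtain ⟨⟨p, hpP⟩, hp⟩ := exists_prime_orderOf_dvd_card' (G := P) 3 (by rw [hP3])
  rw [Subgroup.orderOf_mk] at hp
  have hgen : zpowers p = P :=
    Subgroup.eq_of_le_of_card_ge (zpowers_le.2 hpP) (by rw [Nat.card_zpowers, hp, hP3])
  obtain ⟨g, rfl⟩ := isConj_iff.1 (one_class_three hG hJ hp hθ)
  refine ⟨g, p, hpP, rfl, ?_⟩
  have hC : ∀ u : G, Commute (g * p * g⁻¹) u →
      g⁻¹ * u * g ∈ centralizer ({z} : Set G) ⊓ centralizer (P : Set G) := by
    intro u hu
    have h := hu.map (MulAut.conj g⁻¹).toMonoidHom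
    have hup : g⁻¹ * u * g ∈ centralizer (P : Set G) := by
      rw [← hgen, H74.J4Five.centralizer_zpowers]
      exact mem_centralizer_singleton_iff.2 (by simpa [MulAut.conj_apply, mul_assoc] using h.eq.symm)
    exact ⟨normalizer_P_le hG hJ (centralizer_le_normalizer (G := G) (s := (P : Set G)) hup), hup⟩
  set a' : G := g⁻¹ * a * g with ha'
  set q' : G := g⁻¹ * q * g with hq'
  have hao : orderOf a' = 2 := by
    rw [ha', show g⁻¹ * a * g = MulAut.conj g⁻¹ a by simp [MulAut.conj_apply], MulEquiv.orderOf_eq, ha]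
  have hqo : orderOf q' = 5 := by
    rw [hq', show g⁻¹ * q * g = MulAut.conj g⁻¹ q by simp [MulAut.conj_apply], MulEquiv.orderOf_eq, hq]
  have hcomm : Commute a' q' := by
    have h := haq.map (MulAut.conj g⁻¹).toMonoidHom
    simpa [ha', hq', MulAut.conj_apply, mul_assoc] using h
  suffices h : a' = z by rw [← h, ha']; group
  obtain ⟨π, -, hker⟩ := H42.J4.exists_hom_cent hJ
  set A : ↥(centralizer ({z} : Set G) ⊓ centralizer (P : Set G)) := ⟨a', hC a hθa⟩ with hA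
  set Q : ↥(centralizer ({z} : Set G) ⊓ centralizer (P : Set G)) := ⟨q', hC q hθq⟩ with hQ
  have hzz : z * z = 1 := by rw [← sq, ← hJ.1, pow_orderOf_eq_one]
  have ha2 : a' * a' = 1 := by rw [← sq, ← hao, pow_orderOf_eq_one]
  have ha1 : a' ≠ 1 := fun e => by rw [e, orderOf_one] at hao; omega
  have hkerz : ∀ k, k ∈ π.ker → (k : G) ^ 3 = 1 ∨ (k : G) ^ 3 = z := by
    intro k hk
    rw [hker, mem_subgroupOf] at hk
    obtain ⟨i, hi⟩ := mem_zpowers_iff.1 (H42.J4.cube_mem_z hJ hk)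
    rcases Int.even_or_odd' i with ⟨j, rfl | rfl⟩
    · left; rw [← hi, zpow_mul, zpow_two, hzz, one_zpow]
    · right; rw [← hi, zpow_add, zpow_mul, zpow_two, hzz, one_zpow, one_mul, zpow_one]
  by_cases hAk : A ∈ π.ker
  · rcases hkerz A hAk with e | e
    · exact absurd (by rw [pow_succ, pow_two] at e; simpa [hA, ha2] using e) ha1
    · rw [pow_succ, pow_two] at e
      simpa [hA, ha2] using e
  exfalso
  have hA2 : orderOf A = 2 := by rw [hA, Subgroup.orderOf_mk, hao]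
  have hQ5 : orderOf Q = 5 := by rw [hQ, Subgroup.orderOf_mk, hqo]
  have hπA : orderOf (MulAut.conj (π A)) = 2 := by
    rw [orderOf_injective _ H42.J4.conj22_injective]
    haveI : Fact (Nat.Prime 2) := ⟨Nat.prime_two⟩
    refine orderOf_eq_prime ?_ hAk
    rw [← map_pow, ← hA2, pow_orderOf_eq_one, map_one]
  have hπQ : orderOf (MulAut.conj (π Q)) = 5 := by
    rw [orderOf_injective _ H42.J4.conj22_injective]
    haveI : Fact (Nat.Prime 5) := ⟨by norm_num⟩
    refine orderOf_eq_prime (by rw [← map_pow, ← hQ5, pow_orderOf_eq_one, map_one]) fun hk => ?_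
    rcases hkerz Q hk with e | e
    · have : orderOf q' ∣ 3 := orderOf_dvd_of_pow_eq_one e
      rw [hqo] at this; omega
    · have h6 : q' ^ 6 = 1 := by
        rw [show q' ^ 6 = (q' ^ 3) * (q' ^ 3) by rw [← pow_add], show q' ^ 3 = z from e, hzz]
      have : orderOf q' ∣ 6 := orderOf_dvd_of_pow_eq_one h6
      rw [hqo] at this; omega
  have hc : MulAut.conj (π A) ∈ centralizer ({MulAut.conj (π Q)} : Set (MulAut ↥Spor.M22)) ⊓
      Inn ↥Spor.M22 :=
    ⟨mem_centralizer_singleton_iff.2 ((show Commute A Q from Subtype.ext hcomm.eq).map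
      ((MulAut.conj : ↥Spor.M22 →* _).comp π)).eq, ⟨π A, rfl⟩⟩
  have h := Subgroup.orderOf_dvd_natCard _ hc
  rw [H74.J4Five.card_cent_five_inn _ hπQ, hπA] at h
  omega

end H9.J4LineN
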